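import Cfsg.Agent.H51.SY.Ly
import Cfsg.Agent.H51.SY.ON
import Cfsg.Agent.H959.T5.Tools

/-!
# S3854: the rows `Ly` and `ON` (helper191; translation of the rows of S3846 by helper51)
-/

set_option autoImplicit false

namespace Cfsg.Agent.H191.T5

open Subgroup Cfsg.Agent.H301.SY Cfsg.Agent.H459.Rad Cfsg.Agent.H51.SY Cfsg.Agent.H959.T5

theorem noTE_of_not_dvd {K : Type*} [Group K] {p : ℕ} (h : ¬ p ∣ Nat.card K) : NoTE p K :=
  fun x hx _ _ => h (hx ▸ orderOf_dvd_natCard x)

/-- a proper subgroup of index prime to `p` with radical of order prime to `p` -/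
theorem noTE_of_index {K : Type*} [Group K] [Finite K] {p : ℕ} [hp : Fact p.Prime] {L : Subgroup K} (hL : L ≠ ⊤)
    (hi : ¬ p ∣ L.index) (hr : ¬ p ∣ Nat.card (radIn L)) : NoTE p K := by
  obtain ⟨S⟩ : Nonempty (Sylow p L) := inferInstance
  have hS : IsPGroup p ↥((S : Subgroup L).map L.subtype) := S.isPGroup'.map _
  have hc : ¬ p ∣ ((S : Subgroup L).map L.subtype).index := by
    rw [Subgroup.index_map_subtype]
    intro h1
    rcases (Nat.Prime.dvd_mul hp.out).1 h1 with h2 | h2
    · exact S.not_dvd_index h2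
    · exact hi h2
  refine NoTE.of_sylow (L := L) hL (hS.toSylow hc) ?_ hr
  change (S : Subgroup L).map L.subtype ≤ L
  exact map_subtype_le _

section Ly

open Cfsg.Agent.SporRec.LyG2 Cfsg.Agent.H51.SY.Ly

theorem ly_five : NoTE 5 Cfsg.Spor.Ly := by
  have := finite_ly
  have : Fact (Nat.Prime 5) := ⟨by norm_num⟩
  exact noTE_of_index H_ne (by rw [index_H]; norm_num) (rad_H (by norm_num))

theorem ly_of_H {p : ℕ} (hp : p.Prime) (h : p ∣ 5859000000) (h2 : ¬ p ^ 2 ∣ 51765179004000000) :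
    NoTE p Cfsg.Spor.Ly := by
  have := finite_ly
  have : Fact p.Prime := ⟨hp⟩
  exact NoTE.of_lw (cyclic_of_card (by rw [card_ly]; exact h2)) ⟨LyEmb.H, H_ne, by rw [LyEmb.card_H]; exact h, rad_H hp⟩

theorem ly_eleven : NoTE 11 Cfsg.Spor.Ly := by
  have := finite_ly
  have : Fact (Nat.Prime 11) := ⟨by norm_num⟩
  obtain ⟨h1, h2, ⟨e⟩, -⟩ := Cfsg.Agent.R10.Close.cover_τ
  refine NoTE.of_lw (cyclic_of_card (by rw [card_ly]; norm_num))
    (Lw.of_hom (L := centralizer ({Cfsg.Agent.R10.Close.τ} : Set Cfsg.Spor.Ly)) ?_ (by rw [h1]; norm_num)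
      (e.toMonoidHom.comp (QuotientGroup.mk' _)) (e.surjective.comp (QuotientGroup.mk'_surjective _)) ?_ ?_)
  · intro h
    rw [h, card_top, card_ly] at h1
    norm_num at h1
  · have hs : IsSimpleGroup (alternatingGroup (Fin 11)) :=
      alternatingGroup.isSimpleGroup (by rw [Nat.card_eq_fintype_card, Fintype.card_fin]; norm_num)
    exact rad_eq_bot_of_simple fun hsol => not_comm_of_card (K := alternatingGroup (Fin 11)) (by
      rw [nat_card_alternatingGroup, Nat.card_eq_fintype_card, Fintype.card_fin]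
      norm_num [Nat.factorial])
      ⟨⟨fun a b => IsSimpleGroup.comm_iff_isSolvable.2 hsol a b⟩⟩
  · have h3 : (e.toMonoidHom.comp (QuotientGroup.mk' (center
        ↥(centralizer ({Cfsg.Agent.R10.Close.τ} : Set Cfsg.Spor.Ly))))).ker =
        center ↥(centralizer ({Cfsg.Agent.R10.Close.τ} : Set Cfsg.Spor.Ly)) := by
      ext z
      rw [MonoidHom.mem_ker]
      exact e.map_eq_one_iff.trans (QuotientGroup.eq_one_iff z)
    rw [h3, h2]
    norm_num

/-- an even permutation of order 8 of eleven points -/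
def s8 : Equiv.Perm (Fin 11) where
  toFun i := ![1, 2, 3, 4, 5, 6, 7, 0, 9, 8, 10] i
  invFun i := ![7, 0, 1, 2, 3, 4, 5, 6, 9, 8, 10] i
  left_inv := by decide
  right_inv := by decide

/-- a `2`-element of `Ly` the fourth power and the square of which are not trivial -/
theorem exists_ly : ∃ y : Cfsg.Spor.Ly, y ^ 2 ^ 4 = 1 ∧ y ^ (37 - 1) ≠ 1 ∧ y ^ (67 - 1) ≠ 1 := by
  have := finite_ly
  obtain ⟨h1, h2, ⟨e⟩, -⟩ := Cfsg.Agent.R10.Close.cover_τ
  have hsg : s8 ∈ alternatingGroup (Fin 11) := by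
    rw [Equiv.Perm.mem_alternatingGroup]
    decide
  obtain ⟨q, hq⟩ := e.surjective (⟨s8, hsg⟩ : alternatingGroup (Fin 11))
  obtain ⟨y, rfl⟩ := QuotientGroup.mk_surjective q
  have hpow : ∀ n : ℕ, y ^ n ∈ center ↥(centralizer ({Cfsg.Agent.R10.Close.τ} : Set Cfsg.Spor.Ly)) →
      s8 ^ n = 1 := by
    intro n hn
    have h3 : e (QuotientGroup.mk (y ^ n)) = 1 := by
      rw [(QuotientGroup.eq_one_iff _).2 hn, map_one]
    rw [QuotientGroup.mk_pow, map_pow, hq] at h3
    exact congrArg Subtype.val h3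
  have h8 : y ^ 8 ∈ center ↥(centralizer ({Cfsg.Agent.R10.Close.τ} : Set Cfsg.Spor.Ly)) := by
    rw [← QuotientGroup.eq_one_iff]
    apply e.injective
    rw [map_one, QuotientGroup.mk_pow, map_pow, hq]
    apply Subtype.ext
    show s8 ^ 8 = 1
    decide
  have h16 : y ^ 16 = 1 := by
    have h3 := Subgroup.orderOf_dvd_natCard _ h8
    rw [h2] at h3
    have h4 := orderOf_dvd_iff_pow_eq_one.1 h3
    rw [← pow_mul] at h4
    exact h4
  have hne : ∀ n : ℕ, s8 ^ n ≠ 1 → ((y : Cfsg.Spor.Ly)) ^ n ≠ 1 := by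
    intro n hn h
    apply hn
    apply hpow
    have h3 : y ^ n = 1 := Subtype.ext h
    rw [h3]
    exact one_mem _
  refine ⟨y, ?_, hne _ ?_, hne _ ?_⟩
  · exact congrArg Subtype.val h16
  · decide
  · decide

/-- **`Ly`** -/
theorem noTE_ly {K : Type*} [Group K] [Finite K] [IsSimpleGroup K] (h : Cfsg.Spor.IsoLy K) {p : ℕ} [hf : Fact p.Prime]
    (hp : 5 ≤ p) (hb : Blk p K) (_hO : ThO p K) : NoTE p K := by
  obtain ⟨e⟩ := h
  have := finite_ly
  have hc : Nat.card K = 51765179004000000 := (Nat.card_congr e.toEquiv).trans card_ly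
  by_cases hd : p ∣ 51765179004000000
  swap
  · exact noTE_of_not_dvd (by rw [hc]; exact hd)
  have hpp := hf.out
  have h1 : p ∣ 2 ^ 8 * 3 ^ 7 * 5 ^ 6 * 7 * 11 * 31 * 37 * 67 := by norm_num; exact hd
  have h2 : p = 5 ∨ p = 7 ∨ p = 11 ∨ p = 31 ∨ p = 37 ∨ p = 67 := by
    rw [hpp.dvd_mul, hpp.dvd_mul, hpp.dvd_mul, hpp.dvd_mul, hpp.dvd_mul, hpp.dvd_mul, hpp.dvd_mul] at h1
    have key : ∀ {q : ℕ}, q.Prime → p ∣ q → p = q := fun hq h => (Nat.prime_dvd_prime_iff_eq hpp hq).1 h
    rcases h1 with ((((((h1 | h1) | h1) | h1) | h1) | h1) | h1) | h1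
    · have := key Nat.prime_two (hpp.dvd_of_dvd_pow h1); omega
    · have := key Nat.prime_three (hpp.dvd_of_dvd_pow h1); omega
    · have := key Nat.prime_five (hpp.dvd_of_dvd_pow h1); omega
    · have := key (by norm_num) h1; omega
    · have := key (by norm_num) h1; omega
    · have := key (by norm_num) h1; omega
    · have := key (by norm_num) h1; omega
    · have := key (by norm_num) h1; omega
  obtain ⟨y, hy, hy37, hy67⟩ := exists_ly
  have hyk : (e.symm y) ^ 2 ^ 4 = 1 := by rw [← map_pow, hy, map_one]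
  have hne : ∀ n : ℕ, y ^ n ≠ 1 → (e.symm y) ^ n ≠ 1 := by
    intro n hn h
    apply hn
    rw [← map_pow] at h
    exact e.symm.map_eq_one_iff.1 h
  rcases h2 with rfl | rfl | rfl | rfl | rfl | rfl
  · exact NoTE.congr e ly_five
  · exact NoTE.congr e (ly_of_H hpp (by norm_num) (by norm_num))
  · exact NoTE.congr e ly_eleven
  · exact NoTE.congr e (ly_of_H hpp (by norm_num) (by norm_num))
  · exact NoTE.of_exp (cyclic_of_card (by rw [hc]; norm_num)) hb (by norm_num) hyk (hne _ hy37)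
  · exact NoTE.of_exp (cyclic_of_card (by rw [hc]; norm_num)) hb (by norm_num) hyk (hne _ hy67)

end Ly

section ON

open Cfsg.Agent.H51.SY.ON
open Cfsg.Spor (ON)
open Cfsg.Agent.SporadicB.ON45Word (on)
open Cfsg.Agent.KFacts.ON.Struct (J card_J)
open Cfsg.Agent.KFacts.ON.Words (v)

theorem on_five : NoTE 5 ON := by
  have := finite_on
  have : Fact (Nat.Prime 5) := ⟨by norm_num⟩
  have hs : IsSimpleGroup (J ⧸ center J) := Cfsg.Agent.KFacts.ON.Qs.simple_J
  have hv : orderOf v ∣ 4 := orderOf_dvd_of_pow_eq_one Cfsg.Agent.KFacts.ON.Qs.v4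
  have hc : Nat.card (center J) ∣ 4 := by
    have h1 : (center J).map J.subtype ≤ zpowers v := by
      rintro _ ⟨x, hx, rfl⟩
      exact Cfsg.Agent.KFacts.ON.Qs.mem_center.1 hx
    have h2 := Subgroup.card_dvd_of_le h1
    rw [Subgroup.card_map_of_injective J.subtype_injective, Nat.card_zpowers] at h2
    exact h2.trans hv
  refine NoTE.of_lw (cyclic_of_card (by rw [card_on]; norm_num))
    (Lw.of_hom (L := J) ?_ (by rw [card_J]; norm_num) (QuotientGroup.mk' (center J))
      (QuotientGroup.mk'_surjective _) (rad_eq_bot_of_simple fun hsol => ?_) ?_)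
  · intro h
    have h1 := card_J
    rw [h, card_top, card_on] at h1
    norm_num at h1
  · refine not_comm_of_card (K := J ⧸ center J) ?_ ⟨⟨fun a b => IsSimpleGroup.comm_iff_isSolvable.2 hsol a b⟩⟩
    intro hp
    have h1 : Nat.card (J ⧸ center J) * Nat.card (center J) = 80640 := by
      rw [← Subgroup.card_eq_card_quotient_mul_card_subgroup, card_J]
    obtain ⟨k, hk⟩ := hc
    have h2 : 20160 ∣ Nat.card (J ⧸ center J) := by
      refine ⟨k, ?_⟩
      have h3 : 0 < Nat.card (center J) := Nat.card_pos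
      have h4 : Nat.card (J ⧸ center J) * Nat.card (center J) = 20160 * k * Nat.card (center J) := by
        rw [h1]
        calc 80640 = 20160 * 4 := by norm_num
          _ = 20160 * (Nat.card (center J) * k) := by rw [← hk]
          _ = _ := by ring
      exact Nat.eq_of_mul_eq_mul_right h3 h4
    have h3 : (2 : ℕ) ∣ Nat.card (J ⧸ center J) := (by norm_num : 2 ∣ 20160).trans h2
    have h4 := (Nat.prime_dvd_prime_iff_eq Nat.prime_two hp).1 h3
    rw [← h4] at h2
    norm_num at h2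
  · rw [QuotientGroup.ker_mk']
    intro h
    have := h.trans hc
    norm_num at this

/-- the subgroup `L₃(7):2` -/
theorem on_seven : NoTE 7 ON := by
  have := finite_on
  have : Fact (Nat.Prime 7) := ⟨by norm_num⟩
  obtain ⟨N, hN, hi, ⟨e⟩⟩ := Cfsg.Agent.SporRec.ONAssembly.exists_normal Cfsg.Agent.SporRec.ONLower.ab_ne_one
  have hsP : IsSimpleGroup (Matrix.ProjectiveSpecialLinearGroup (Fin 3) (ZMod 7)) :=
    Cfsg.Agent.SporRec.ONL37.simple_PSL37
  have hcH := Cfsg.Agent.SporRec.ONAssembly.card_H Cfsg.Agent.SporRec.ONLower.ab_ne_one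
  have hiH : (Cfsg.Agent.SporRec.ONAssembly.H).index = 122760 := by
    have h1 := (Cfsg.Agent.SporRec.ONAssembly.H).card_mul_index
    rw [hcH, card_on] at h1
    omega
  have hnt : Nontrivial N := e.toEquiv.nontrivial
  have hsN : IsSimpleGroup N := IsSimpleGroup.isSimpleGroup_of_surjective e.symm.toMonoidHom e.symm.surjective
  have hcN : Nat.card N = 1876896 := by
    have h1 := N.card_mul_index
    rw [hi, hcH] at h1
    omega
  have hnot : ¬ Group.IsSolvable N := fun hsol => not_comm_of_card (K := N) (by rw [hcN]; norm_num)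
    ⟨⟨fun a b => IsSimpleGroup.comm_iff_isSolvable.2 hsol a b⟩⟩
  refine noTE_of_index (L := Cfsg.Agent.SporRec.ONAssembly.H) ?_ ?_ ?_
  · intro h
    rw [h, card_top, card_on] at hcH
    norm_num at hcH
  · rw [hiH]
    norm_num
  · have h2 : Nat.card (radIn Cfsg.Agent.SporRec.ONAssembly.H) =
        Nat.card (solvableRadical Cfsg.Agent.SporRec.ONAssembly.H) :=
      Subgroup.card_map_of_injective (Cfsg.Agent.SporRec.ONAssembly.H).subtype_injective
    rw [h2]
    set R := solvableRadical Cfsg.Agent.SporRec.ONAssembly.H with hR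
    have hRn : R.Normal := rad_normal _
    have h3 : R.subgroupOf N = ⊥ := by
      rcases (inferInstance : (R.subgroupOf N).Normal).eq_bot_or_eq_top with h4 | h4
      · exact h4
      · exfalso
        apply hnot
        have h5 : N ≤ R := Subgroup.subgroupOf_eq_top.1 h4
        exact Cfsg.Agent.SignalizersComponents.ComponentExists.isSolvable_of_le h5 (rad_solvable _)
    have h4 : N.subgroupOf R = ⊥ := by
      rw [Subgroup.subgroupOf_eq_bot] at h3 ⊢
      exact h3.symm
    have h5 : N.relIndex R ∣ 2 := hi ▸ Subgroup.relIndex_dvd_index_of_normal N R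
    have h6 : N.relIndex R = Nat.card R := by
      rw [Subgroup.relIndex, h4, Subgroup.index_bot]
    rw [h6] at h5
    intro h7
    have := h7.trans h5
    norm_num at this

theorem f_ne_one : on .f ≠ 1 := by
  intro h
  have h1 := Cfsg.Agent.KFacts.ON.Cent.card_cent
  have h2 : centralizer ({on .f} : Set ON) = ⊤ := by
    rw [eq_top_iff]
    intro x _
    rw [mem_centralizer_singleton_iff, h, mul_one, one_mul]
  rw [h2, card_top, card_on] at h1
  norm_num at h1

theorem v_pow {n : ℕ} (hn : n % 4 = 2) : v ^ n ≠ 1 := by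
  have h4 : v ^ 4 = 1 := Cfsg.Agent.KFacts.ON.Qs.v4
  have h1 : n = 4 * (n / 4) + 2 := by omega
  rw [h1, pow_add, pow_mul, h4, one_pow, one_mul, pow_two, Cfsg.Agent.KFacts.ON.Words.vv]
  exact f_ne_one

/-- **`ON`** -/
theorem noTE_on {K : Type*} [Group K] [Finite K] [IsSimpleGroup K] (h : Cfsg.Spor.IsoON K) {p : ℕ} [hf : Fact p.Prime]
    (hp : 5 ≤ p) (hb : Blk p K) (_hO : ThO p K) : NoTE p K := by
  obtain ⟨e⟩ := h
  have := finite_on
  have hc : Nat.card K = 460815505920 := (Nat.card_congr e.toEquiv).trans card_on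
  by_cases hd : p ∣ 460815505920
  swap
  · exact noTE_of_not_dvd (by rw [hc]; exact hd)
  have hpp := hf.out
  have h1 : p ∣ 2 ^ 9 * 3 ^ 4 * 5 * 7 ^ 3 * 11 * 19 * 31 := by norm_num; exact hd
  have h2 : p = 5 ∨ p = 7 ∨ p = 11 ∨ p = 19 ∨ p = 31 := by
    rw [hpp.dvd_mul, hpp.dvd_mul, hpp.dvd_mul, hpp.dvd_mul, hpp.dvd_mul, hpp.dvd_mul] at h1
    have key : ∀ {q : ℕ}, q.Prime → p ∣ q → p = q := fun hq h => (Nat.prime_dvd_prime_iff_eq hpp hq).1 h
    rcases h1 with (((((h1 | h1) | h1) | h1) | h1) | h1) | h1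
    · have := key Nat.prime_two (hpp.dvd_of_dvd_pow h1); omega
    · have := key Nat.prime_three (hpp.dvd_of_dvd_pow h1); omega
    · have := key (by norm_num) h1; omega
    · have := key (by norm_num) (hpp.dvd_of_dvd_pow h1); omega
    · have := key (by norm_num) h1; omega
    · have := key (by norm_num) h1; omega
    · have := key (by norm_num) h1; omega
  have hyk : (e.symm v) ^ 2 ^ 2 = 1 := by
    rw [← map_pow]
    have h4 : v ^ 2 ^ 2 = 1 := Cfsg.Agent.KFacts.ON.Qs.v4
    rw [h4, map_one]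
  have hne : ∀ n : ℕ, n % 4 = 2 → (e.symm v) ^ n ≠ 1 := by
    intro n hn h
    apply v_pow hn
    rw [← map_pow] at h
    exact e.symm.map_eq_one_iff.1 h
  rcases h2 with rfl | rfl | rfl | rfl | rfl
  · exact NoTE.congr e on_five
  · exact NoTE.congr e on_seven
  · exact NoTE.of_exp (cyclic_of_card (by rw [hc]; norm_num)) hb (by norm_num) hyk (hne _ (by norm_num))
  · exact NoTE.of_exp (cyclic_of_card (by rw [hc]; norm_num)) hb (by norm_num) hyk (hne _ (by norm_num))
  · exact NoTE.of_exp (cyclic_of_card (by rw [hc]; norm_num)) hb (by norm_num) hyk (hne _ (by norm_num))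

end ON

end Cfsg.Agent.H191.T5
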